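import Mathlib
import Cfsg.Agent.Lib.Helper1.BG12b.PartTwo
import Cfsg.Agent.Lib.Helper28.BGtJ
import Cfsg.Agent.Lib.Helper18.SigPartH

set_option autoImplicit false

namespace Cfsg.Agent.Lib.Helper1.BG14

open Cfsg Cfsg.Agent.Lib.Helper18 Cfsg.Agent.Lib.Helper28.BGt
open Cfsg.Agent.Lib.Helper1.BG12b

variable {G : Type*} [Group G] [Finite G]

theorem normal_le_hall {π : Set ℕ} {W D M : Subgroup G} (hW : Cfsg.IsPiHallOf π W M)
    (hDM : D ≤ M) (hn : M ≤ Subgroup.normalizer (D : Set G))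
    (hD : ∀ p : ℕ, p.Prime → p ∣ Nat.card D → p ∈ π) : D ≤ W := by
  rw [← Subgroup.relIndex_eq_one]
  by_contra hne
  obtain ⟨p, hp, hpd⟩ := Nat.exists_prime_and_dvd hne
  have h1 : p ∣ Nat.card D := hpd.trans (Subgroup.relIndex_dvd_card _ _)
  have h2 : W.relIndex D = W.relIndex (W ⊔ D) :=
    (relIndex_sup_of_le_normalizer W D (hW.1.trans hn)).symm
  have h3 : W.relIndex (W ⊔ D) ∣ W.relIndex M := by
    have := Subgroup.relIndex_mul_relIndex W (W ⊔ D) M le_sup_left (sup_le hW.1 hDM)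
    exact Dvd.intro _ this
  rw [h2] at hpd
  exact hW.2.2 p hp (hD p hp h1) (hpd.trans h3)

theorem coprime_parts_eq {π : Set ℕ} {a b c d : ℕ} (h : a * b = c * d)
    (ha : ∀ p : ℕ, p.Prime → p ∣ a → p ∉ π) (hb : ∀ p : ℕ, p.Prime → p ∣ b → p ∈ π)
    (hc : ∀ p : ℕ, p.Prime → p ∣ c → p ∈ π) (hd : ∀ p : ℕ, p.Prime → p ∣ d → p ∉ π) :
    b = c := by
  apply Nat.dvd_antisymm
  · have h1 : b ∣ c * d := Dvd.intro_left a h
    have h2 : b.Coprime d := by
      apply Nat.coprime_of_dvd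
      intro p hp h3 h4
      exact hd p hp h4 (hb p hp h3)
    exact h2.dvd_of_dvd_mul_right h1
  · have h1 : c ∣ a * b := Dvd.intro d h.symm
    have h2 : c.Coprime a := by
      apply Nat.coprime_of_dvd
      intro p hp h3 h4
      exact ha p hp h4 (hc p hp h3)
    exact h2.dvd_of_dvd_mul_left h1

structure KHall (M W : Subgroup G) : Prop where
  le : W ≤ M
  normal : M ≤ Subgroup.normalizer (W : Set G)
  prime_card : ∀ p : ℕ, p.Prime → p ∣ Nat.card W → p ∉ Cfsg.kappa M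
  prime_idx : ∀ p : ℕ, p.Prime → p ∣ W.relIndex M → p ∈ Cfsg.kappa M
  derived_le : ⁅M, M⁆ ≤ W
  sigma_le : Cfsg.sigmaCore M ≤ W

theorem exists_kHall (hG : Cfsg.IsMinSimpleOddOrder G) {M : Subgroup G} (hM : IsCoatom M)
    (Hκ : ∀ p ∈ Cfsg.kappa M, p ∈ Cfsg.tau1 M) : ∃ W : Subgroup G, KHall M W := by
  have hMs : Group.IsSolvable ↥M := hG.2.2.2 M hM.1
  obtain ⟨W, hW⟩ := exists_piHallOf {p | p ∉ Cfsg.kappa M} M
  have hD : ⁅M, M⁆ ≤ W := by
    apply normal_le_hall hW (Subgroup.commutator_le.mpr (fun a ha b hb =>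
      M.mul_mem (M.mul_mem (M.mul_mem ha hb) (M.inv_mem ha)) (M.inv_mem hb)))
      (le_normalizer_derived' M)
    intro p hp hpd hκ
    exact (Hκ p hκ).2.2.2.1 hpd
  have hS : Cfsg.sigmaCore M ≤ W := by
    apply normal_le_hall hW (sigmaCore_le M) (le_normalizer_sigmaCore M)
    intro p hp hpd hκ
    exact hκ.2.2.1 (prime_sigmaCore hG hM hp hpd)
  refine ⟨W, hW.1, ?_, hW.2.1, ?_, hD, hS⟩
  · intro m hm
    rw [Subgroup.mem_normalizer_iff]
    have key : ∀ m ∈ M, ∀ w ∈ W, m * w * m⁻¹ ∈ W := by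
      intro m hm w hw
      have h1 : m * w * m⁻¹ = (m * w * m⁻¹ * w⁻¹) * w := by group
      rw [h1]
      apply W.mul_mem (hD _) hw
      exact Subgroup.commutator_mem_commutator hm (hW.1 hw)
    intro w
    constructor
    · intro hw
      exact key m hm w hw
    · intro hw
      have := key m⁻¹ (M.inv_mem hm) _ hw
      simpa [mul_assoc] using this
  · intro p hp hpd
    by_contra hκ
    exact hW.2.2 p hp hκ hpd

omit [Finite G] in
theorem KHall.card_mul {M W K : Subgroup G} (hW : KHall M W)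
    (hK : Cfsg.IsPiHallOf (Cfsg.kappa M) K M) : Nat.card W * Nat.card K = Nat.card M := by
  have h1 := Cfsg.Agent.Lib.Helper1.BG12.card_mul_relIndex_of_le hW.le
  have h2 := Cfsg.Agent.Lib.Helper1.BG12.card_mul_relIndex_of_le hK.1
  have h3 : W.relIndex M = Nat.card K := by
    apply coprime_parts_eq (π := Cfsg.kappa M) (h1.trans h2.symm) hW.prime_card hW.prime_idx hK.2.1
    intro p hp hpd hκ
    exact hK.2.2 p hp hκ hpd
  rw [← h3]
  exact h1

theorem KHall.inf_eq_bot {M W K : Subgroup G} (hW : KHall M W)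
    (hK : ∀ p : ℕ, p.Prime → p ∣ Nat.card K → p ∈ Cfsg.kappa M) : W ⊓ K = ⊥ := by
  apply Cfsg.Agent.Lib.Helper1.BG15.eq_bot_of_forall_prime_not_dvd
  intro q hq hqd
  exact hW.prime_card q hq (hqd.trans (Subgroup.card_dvd_of_le inf_le_left))
    (hK q hq (hqd.trans (Subgroup.card_dvd_of_le inf_le_right)))

theorem KHall.sup_eq {M W K : Subgroup G} (hW : KHall M W)
    (hK : Cfsg.IsPiHallOf (Cfsg.kappa M) K M) : W ⊔ K = M := by
  apply Subgroup.eq_of_le_of_card_ge (sup_le hW.le hK.1)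
  have h1 : Nat.card (K ⊔ W : Subgroup G) = Nat.card K * Nat.card W :=
    card_sup_of_inf_eq_bot (hK.1.trans hW.normal) (by rw [inf_comm]; exact hW.inf_eq_bot hK.2.1)
  rw [sup_comm, h1, mul_comm, hW.card_mul hK]

theorem KHall.le_of_not_kappa {M W X : Subgroup G} (hW : KHall M W) (hXM : X ≤ M)
    (hX : ∀ p : ℕ, p.Prime → p ∣ Nat.card X → p ∉ Cfsg.kappa M) : X ≤ W := by
  apply le_of_coprime_relIndex hW.le hXM hW.normal
  apply Nat.coprime_of_dvd
  intro p hp h1 h2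
  exact hX p hp h1 (hW.prime_idx p hp h2)

end Cfsg.Agent.Lib.Helper1.BG14
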