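import Mathlib
import Cfsg.Agent.Lib.Helper1.BG14.KappaHall

set_option autoImplicit false

namespace Cfsg.Agent.Lib.Helper1.BG14

open Cfsg Cfsg.Agent.Lib.Helper18 Cfsg.Agent.Lib.Helper28.BGt
open Cfsg.Agent.Lib.Helper1.BG12b

variable {G : Type*} [Group G] [Finite G]

theorem kappa_hall_exists_cyclic (hG : Cfsg.IsMinSimpleOddOrder G) {M : Subgroup G}
    (hM : IsCoatom M) (Hκ : ∀ p ∈ Cfsg.kappa M, p ∈ Cfsg.tau1 M) :
    (∃ K : Subgroup G, Cfsg.IsPiHallOf (Cfsg.kappa M) K M) ∧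
      ∀ K : Subgroup G, Cfsg.IsPiHallOf (Cfsg.kappa M) K M → IsCyclic K := by
  have hMs : Group.IsSolvable ↥M := hG.2.2.2 M hM.1
  refine ⟨exists_piHallOf (Cfsg.kappa M) M, ?_⟩
  intro K hK
  exact Cfsg.Agent.Lib.Helper18.SigPartH.cyclic_of_tau1 hG hK.1
    (fun r hr hrd => Hκ r (hK.2.1 r hr hrd))

theorem exists_decomp (hG : Cfsg.IsMinSimpleOddOrder G) {M : Subgroup G}
    (hM : IsCoatom M) (Hκ : ∀ p ∈ Cfsg.kappa M, p ∈ Cfsg.tau1 M) {K : Subgroup G}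
    (hKc : IsCyclic K) (hK : Cfsg.IsPiHallOf (Cfsg.kappa M) K M) :
    ∃ U : Subgroup G, Cfsg.IsSigmaDecomposition M K U := by
  obtain ⟨W, hW⟩ := exists_kHall hG hM Hκ
  obtain ⟨E, hE, hKE⟩ := exists_compl_ge hG hM hK.1
    (fun q hq hqd => (hK.2.1 q hq hqd).2.2.1)
  have hKs : K ⊓ Cfsg.sigmaCore M = ⊥ :=
    Cfsg.Agent.Lib.Helper1.BG15.kappa_inf_sigmaCore hG hM hK.2.1
  have hKN : K ≤ Subgroup.normalizer (Cfsg.sigmaCore M : Set G) :=
    hK.1.trans (le_normalizer_sigmaCore M)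
  refine ⟨E ⊓ W, hKc, hK, ⟨inf_le_left.trans hE.1, sup_le hK.1 (sigmaCore_le M), ?_, ?_⟩, ?_⟩
  · apply Cfsg.Agent.Lib.Helper1.BG15.eq_bot_of_forall_prime_not_dvd
    intro q hq hqd
    have h1 : q ∣ Nat.card E :=
      hqd.trans (Subgroup.card_dvd_of_le (inf_le_left.trans inf_le_left))
    have h2 : q ∣ Nat.card W :=
      hqd.trans (Subgroup.card_dvd_of_le (inf_le_left.trans inf_le_right))
    have h3 : q ∣ Nat.card K * Nat.card (Cfsg.sigmaCore M) :=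
      (hqd.trans (Subgroup.card_dvd_of_le inf_le_right)).trans (card_sup_dvd hKN)
    rcases (Nat.Prime.dvd_mul hq).mp h3 with h | h
    · exact hW.prime_card q hq h2 (hK.2.1 q hq h)
    · exact compl_prime_not_sigma hG hM hE hq h1 (prime_sigmaCore hG hM hq h)
  · intro m hm
    obtain ⟨e, he, s, hs, rfl⟩ := hE.2.2.2 m hm
    have heM : e ∈ W ⊔ K := by
      rw [hW.sup_eq hK]
      exact hE.1 he
    obtain ⟨w, hw, k, hk, rfl⟩ :=
      Cfsg.Agent.Lib.Helper10.exists_mul_of_mem_sup W K (hK.1.trans hW.normal) e heM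
    refine ⟨w, ⟨?_, hw⟩, k * s, ?_, by group⟩
    · have : w = (w * k) * k⁻¹ := by group
      rw [this]
      exact E.mul_mem he (E.inv_mem (hKE hk))
    · exact Subgroup.mul_mem _ (Subgroup.mem_sup_left hk) (Subgroup.mem_sup_right hs)
  · intro k hk
    have h1 : k ∈ Subgroup.normalizer (E : Set G) := Subgroup.le_normalizer (hKE hk)
    have h2 : k ∈ Subgroup.normalizer (W : Set G) := hW.normal (hK.1 hk)
    rw [Subgroup.mem_normalizer_iff] at h1 h2 ⊢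
    intro x
    rw [Subgroup.mem_inf, Subgroup.mem_inf, ← h1 x, ← h2 x]

theorem decomp_normal (hG : Cfsg.IsMinSimpleOddOrder G) {M : Subgroup G}
    (hM : IsCoatom M) (Hκ : ∀ p ∈ Cfsg.kappa M, p ∈ Cfsg.tau1 M) {K U : Subgroup G}
    (hKU : Cfsg.IsSigmaDecomposition M K U) :
    M ≤ Subgroup.normalizer ((U ⊔ Cfsg.sigmaCore M : Subgroup G) : Set G) := by
  obtain ⟨W, hW⟩ := exists_kHall hG hM Hκ
  have hK := hKU.hall
  have hUW : U ≤ W := hW.le_of_not_kappa hKU.compl.1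
    (fun p hp hpd => Cfsg.Agent.Lib.Helper1.BG15.not_kappa_of_dvd_U hKU hpd)
  have hle : U ⊔ Cfsg.sigmaCore M ≤ W := sup_le hUW hW.sigma_le
  have hKs : K ⊓ Cfsg.sigmaCore M = ⊥ :=
    Cfsg.Agent.Lib.Helper1.BG15.kappa_inf_sigmaCore hG hM hK.2.1
  have hKN : K ≤ Subgroup.normalizer (Cfsg.sigmaCore M : Set G) :=
    hK.1.trans (le_normalizer_sigmaCore M)
  have hUN : U ≤ Subgroup.normalizer (Cfsg.sigmaCore M : Set G) :=
    hKU.compl.1.trans (le_normalizer_sigmaCore M)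
  have hUs : U ⊓ Cfsg.sigmaCore M = ⊥ := by
    rw [eq_bot_iff, ← hKU.compl.2.2.1]
    exact inf_le_inf_left U le_sup_right
  have h1 : Nat.card (U ⊔ Cfsg.sigmaCore M : Subgroup G) =
      Nat.card U * Nat.card (Cfsg.sigmaCore M) := card_sup_of_inf_eq_bot hUN hUs
  have h2 : Nat.card (K ⊔ Cfsg.sigmaCore M : Subgroup G) =
      Nat.card K * Nat.card (Cfsg.sigmaCore M) := card_sup_of_inf_eq_bot hKN hKs
  have h3 := Cfsg.Agent.Lib.Helper1.BG15.card_of_isComplIn hKU.compl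
  have h4 := hW.card_mul hK
  have h5 : Nat.card W = Nat.card (U ⊔ Cfsg.sigmaCore M : Subgroup G) := by
    have hpos : 0 < Nat.card K := Nat.card_pos
    apply Nat.eq_of_mul_eq_mul_right hpos
    rw [h4, h3, h2, h1]
    ring
  have h6 : U ⊔ Cfsg.sigmaCore M = W := Subgroup.eq_of_le_of_card_ge hle h5.le
  rw [h6]
  exact hW.normal

end Cfsg.Agent.Lib.Helper1.BG14
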