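import Mathlib
import Cfsg.Agent.Lib.Helper1.BG14.KappaDecomp
import Cfsg.Agent.Lib.Helper21.BG14a

set_option autoImplicit false

namespace Cfsg.Agent.Lib.Helper1.BG14

open Cfsg Cfsg.Agent.Lib.Helper18 Cfsg.Agent.Lib.Helper28.BGt
open Cfsg.Agent.Lib.Helper1.BG12b

variable {G : Type*} [Group G] [Finite G]

def T1312 (M : Subgroup G) : Prop :=
  ∀ x ∈ M, ∀ u ∈ M, orderOf x ∈ Cfsg.tau1 M → orderOf u ∈ Cfsg.tau2 M → x * u = u * x →
    Cfsg.sigmaCore M ⊓ Subgroup.centralizer ({x} : Set G) = ⊥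

theorem kappa_regular_on_U (hG : Cfsg.IsMinSimpleOddOrder G) {M K U : Subgroup G}
    (hM : IsCoatom M) (Hκ : ∀ p ∈ Cfsg.kappa M, p ∈ Cfsg.tau1 M) (HL : T1312 M)
    (hKU : Cfsg.IsSigmaDecomposition M K U) :
    ∀ k ∈ K, k ≠ 1 → U ⊓ Subgroup.centralizer ({k} : Set G) = ⊥ := by
  intro k hk hk1
  by_contra hne
  obtain ⟨⟨u, hu⟩, hu1'⟩ := (Subgroup.ne_bot_iff_exists_ne_one).mp hne
  have hu1 : u ≠ 1 := fun e => hu1' (Subtype.ext e)
  obtain ⟨huU, huC⟩ := hu
  have huk : Commute u k := Subgroup.mem_centralizer_singleton_iff.mp huC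
  have hK := hKU.hall
  have hE := Cfsg.Agent.Lib.Helper1.BG15.compl_of_decomp hG hM hKU
  have hko : orderOf k ≠ 1 := fun h => hk1 (orderOf_eq_one_iff.mp h)
  have huo : orderOf u ≠ 1 := fun h => hu1 (orderOf_eq_one_iff.mp h)
  obtain ⟨p, hp, hpk⟩ := Nat.exists_prime_and_dvd hko
  obtain ⟨r, hr, hru⟩ := Nat.exists_prime_and_dvd huo
  have hk0o : orderOf (k ^ (orderOf k / p)) = p :=
    orderOf_pow_orderOf_div (orderOf_pos k).ne' hpk
  have hu0o : orderOf (u ^ (orderOf u / r)) = r :=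
    orderOf_pow_orderOf_div (orderOf_pos u).ne' hru
  have hk0K : k ^ (orderOf k / p) ∈ K := K.pow_mem hk _
  have hu0U : u ^ (orderOf u / r) ∈ U := U.pow_mem huU _
  have hk01 : k ^ (orderOf k / p) ≠ 1 := by
    intro h
    rw [h, orderOf_one] at hk0o
    exact hp.one_lt.ne hk0o
  have hcomm : k ^ (orderOf k / p) * u ^ (orderOf u / r) =
      u ^ (orderOf u / r) * k ^ (orderOf k / p) :=
    ((huk.symm).pow_pow _ _).eq
  have hpτ : p ∈ Cfsg.tau1 M :=
    Hκ p (hK.2.1 p hp (hpk.trans (Subgroup.orderOf_dvd_natCard K hk)))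
  have hstar := Cfsg.Agent.Lib.Helper21.BG14a.kappa_star_ne_bot hG hM Hκ hK
  have hpa := Cfsg.Agent.Lib.Helper21.BG14a.kappa_prime_action hG hM Hκ hK _ hk0K hk01
  have hle := Cfsg.Agent.Lib.Helper21.BG14a.cent_prime_le hG hM hE hpτ
    (Subgroup.mem_sup_right hk0K) (Subgroup.mem_sup_left hu0U) hk0o (by rw [hu0o]; exact hr) hcomm
  rw [← hpa] at hstar
  obtain ⟨⟨y, hy⟩, hy1'⟩ := (Subgroup.ne_bot_iff_exists_ne_one).mp hstar
  have hy1 : y ≠ 1 := fun e => hy1' (Subtype.ext e)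
  have hy2 := hle hy
  have huy : u ^ (orderOf u / r) * y = y * u ^ (orderOf u / r) :=
    (Subgroup.mem_centralizer_singleton_iff.mp hy2.2).symm
  have hrτ : r ∈ Cfsg.tau2 M :=
    Cfsg.Agent.Lib.Helper1.BG15.tau2_of_nonregular hG hM hKU hu0U hr (by rw [hu0o]) hy2.1 hy1 huy
  have hbot := HL _ (hK.1 hk0K) _ (hKU.compl.1 hu0U) (by rw [hk0o]; exact hpτ)
    (by rw [hu0o]; exact hrτ) hcomm
  rw [hbot, Subgroup.mem_bot] at hy
  exact hy1 hy

theorem kappa_cent (hG : Cfsg.IsMinSimpleOddOrder G) {M K U : Subgroup G}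
    (hM : IsCoatom M) (Hκ : ∀ p ∈ Cfsg.kappa M, p ∈ Cfsg.tau1 M) (HL : T1312 M)
    (hKU : Cfsg.IsSigmaDecomposition M K U) :
    ∀ k ∈ K, k ≠ 1 → M ⊓ Subgroup.centralizer ({k} : Set G) =
      K ⊔ (Cfsg.sigmaCore M ⊓ Subgroup.centralizer (K : Set G)) := by
  intro k hk hk1
  have hK := hKU.hall
  have hE := Cfsg.Agent.Lib.Helper1.BG15.compl_of_decomp hG hM hKU
  have hpa := Cfsg.Agent.Lib.Helper21.BG14a.kappa_prime_action hG hM Hκ hK k hk hk1
  have hab := Cfsg.Agent.Lib.Helper21.BG14a.kappa_hall_comm hG Hκ hK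
  have hreg := kappa_regular_on_U hG hM Hκ HL hKU k hk hk1
  apply le_antisymm
  · rintro m ⟨hmM, hmC⟩
    have hmk : m * k = k * m := Subgroup.mem_centralizer_singleton_iff.mp hmC
    obtain ⟨e, he, s, hs, rfl⟩ := hE.2.2.2 m hmM
    have hkE : k ∈ U ⊔ K := Subgroup.mem_sup_right hk
    have h1 : e⁻¹ * k * e * k⁻¹ ∈ (U ⊔ K) ⊓ Cfsg.sigmaCore M := by
      refine Subgroup.mem_inf.mpr ⟨?_, ?_⟩
      · exact Subgroup.mul_mem _ (Subgroup.mul_mem _ (Subgroup.mul_mem _
          (Subgroup.inv_mem _ he) hkE) he) (Subgroup.inv_mem _ hkE)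
      · have h2 : e⁻¹ * k * e * k⁻¹ = s * (k * s⁻¹ * k⁻¹) := by
          have h3 : k = e * s * k * s⁻¹ * e⁻¹ := by
            calc k = k * (e * s) * (e * s)⁻¹ := by group
              _ = e * s * k * (e * s)⁻¹ := by rw [← hmk]
              _ = e * s * k * s⁻¹ * e⁻¹ := by group
          calc e⁻¹ * k * e * k⁻¹ = e⁻¹ * (e * s * k * s⁻¹ * e⁻¹) * e * k⁻¹ := by rw [← h3]
            _ = s * (k * s⁻¹ * k⁻¹) := by group
        rw [h2]
        apply Subgroup.mul_mem _ hs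
        exact conj_mem_of_le_normalizer (le_normalizer_sigmaCore M) (hK.1 hk)
          (Subgroup.inv_mem _ hs)
    rw [hE.2.2.1, Subgroup.mem_bot] at h1
    have hek : e * k = k * e := by
      have : k * e = e * (e⁻¹ * k * e * k⁻¹) * k := by group
      rw [this, h1]; group
    have hsk : s * k = k * s := by
      have h4 : e * (s * k) = e * (k * s) := by
        calc e * (s * k) = e * s * k := by group
          _ = k * (e * s) := hmk
          _ = (k * e) * s := by group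
          _ = (e * k) * s := by rw [hek]
          _ = e * (k * s) := by group
      exact mul_left_cancel h4
    have hsK : s ∈ Cfsg.sigmaCore M ⊓ Subgroup.centralizer (K : Set G) := by
      rw [← hpa]
      exact Subgroup.mem_inf.mpr ⟨hs, Subgroup.mem_centralizer_singleton_iff.mpr hsk⟩
    obtain ⟨u, hu, k', hk', rfl⟩ :=
      Cfsg.Agent.Lib.Helper10.exists_mul_of_mem_sup U K hKU.normal e he
    have huk : u * k = k * u := by
      have h5 : u * k' * k = k * (u * k') := hek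
      have h6 : k' * k = k * k' := hab k' hk' k hk
      have h7 : (u * k) * k' = (k * u) * k' := by
        calc (u * k) * k' = u * (k * k') := by group
          _ = u * (k' * k) := by rw [h6]
          _ = u * k' * k := by group
          _ = k * (u * k') := h5
          _ = (k * u) * k' := by group
      exact mul_right_cancel h7
    have hu1 : u ∈ U ⊓ Subgroup.centralizer ({k} : Set G) :=
      Subgroup.mem_inf.mpr ⟨hu, Subgroup.mem_centralizer_singleton_iff.mpr huk⟩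
    rw [hreg, Subgroup.mem_bot] at hu1
    rw [hu1, one_mul]
    exact Subgroup.mul_mem _ (Subgroup.mem_sup_left hk') (Subgroup.mem_sup_right hsK)
  · apply sup_le
    · intro k' hk'
      exact Subgroup.mem_inf.mpr ⟨hK.1 hk',
        Subgroup.mem_centralizer_singleton_iff.mpr (hab k' hk' k hk)⟩
    · rw [← hpa]
      exact inf_le_inf_right _ (sigmaCore_le M)

end Cfsg.Agent.Lib.Helper1.BG14
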