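import Mathlib
import Cfsg.Agent.Lib.Helper1.BG14.KappaRegular
import Cfsg.Agent.S0022
import Cfsg.Agent.S1426

set_option autoImplicit false

namespace Cfsg.Agent.Lib.Helper1.BG14

open Cfsg Cfsg.Agent.Lib.Helper18 Cfsg.Agent.Lib.Helper28.BGt
open Cfsg.Agent.Lib.Helper1.BG12b
open scoped commutatorElement

variable {G : Type*} [Group G] [Finite G]

theorem mem_normalizer_sup {A B : Subgroup G} {g : G}
    (hA : g ∈ Subgroup.normalizer (A : Set G)) (hB : g ∈ Subgroup.normalizer (B : Set G)) :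
    g ∈ Subgroup.normalizer ((A ⊔ B : Subgroup G) : Set G) := by
  apply mem_normalizer_of_conjSub_le
  have h : conjSub g (A ⊔ B) = conjSub g A ⊔ conjSub g B := Subgroup.map_sup _ _ _
  rw [h, conjSub_eq_of_mem_normalizer hA, conjSub_eq_of_mem_normalizer hB]

omit [Finite G] in
theorem mem_normalizer_inf {A B : Subgroup G} {g : G}
    (hA : g ∈ Subgroup.normalizer (A : Set G)) (hB : g ∈ Subgroup.normalizer (B : Set G)) :
    g ∈ Subgroup.normalizer ((A ⊓ B : Subgroup G) : Set G) := by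
  rw [Subgroup.mem_normalizer_iff] at hA hB ⊢
  intro x
  rw [Subgroup.mem_inf, Subgroup.mem_inf, ← hA x, ← hB x]

theorem mem_normalizer_commutator {A : Subgroup G} {g : G}
    (hA : g ∈ Subgroup.normalizer (A : Set G)) :
    g ∈ Subgroup.normalizer ((⁅A, A⁆ : Subgroup G) : Set G) := by
  apply mem_normalizer_of_conjSub_le
  have h : conjSub g ⁅A, A⁆ = ⁅conjSub g A, conjSub g A⁆ := Subgroup.map_commutator _ _ _
  rw [h, conjSub_eq_of_mem_normalizer hA]

theorem KHall.decomp_sup_eq (hG : Cfsg.IsMinSimpleOddOrder G) {M W K U : Subgroup G}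
    (hM : IsCoatom M) (hW : KHall M W) (hKU : Cfsg.IsSigmaDecomposition M K U) :
    U ⊔ Cfsg.sigmaCore M = W := by
  have hK := hKU.hall
  have hUW : U ≤ W := hW.le_of_not_kappa hKU.compl.1
    (fun p hp hpd => Cfsg.Agent.Lib.Helper1.BG15.not_kappa_of_dvd_U hKU hpd)
  have hle : U ⊔ Cfsg.sigmaCore M ≤ W := sup_le hUW hW.sigma_le
  have hKs : K ⊓ Cfsg.sigmaCore M = ⊥ :=
    Cfsg.Agent.Lib.Helper1.BG15.kappa_inf_sigmaCore hG hM hK.2.1
  have hKN : K ≤ Subgroup.normalizer (Cfsg.sigmaCore M : Set G) :=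
    hK.1.trans (le_normalizer_sigmaCore M)
  have hUN : U ≤ Subgroup.normalizer (Cfsg.sigmaCore M : Set G) :=
    hKU.compl.1.trans (le_normalizer_sigmaCore M)
  have hUs : U ⊓ Cfsg.sigmaCore M = ⊥ := by
    rw [eq_bot_iff, ← hKU.compl.2.2.1]
    exact inf_le_inf_left U le_sup_right
  have h1 : Nat.card (U ⊔ Cfsg.sigmaCore M : Subgroup G) =
      Nat.card U * Nat.card (Cfsg.sigmaCore M) := card_sup_of_inf_eq_bot hUN hUs
  have h2 : Nat.card (K ⊔ Cfsg.sigmaCore M : Subgroup G) =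
      Nat.card K * Nat.card (Cfsg.sigmaCore M) := card_sup_of_inf_eq_bot hKN hKs
  have h3 := Cfsg.Agent.Lib.Helper1.BG15.card_of_isComplIn hKU.compl
  have h4 := hW.card_mul hK
  have h5 : Nat.card W = Nat.card (U ⊔ Cfsg.sigmaCore M : Subgroup G) := by
    have hpos : 0 < Nat.card K := Nat.card_pos
    apply Nat.eq_of_mul_eq_mul_right hpos
    rw [h4, h3, h2, h1]
    ring
  exact Subgroup.eq_of_le_of_card_ge hle h5.le

theorem U_le_derived (hG : Cfsg.IsMinSimpleOddOrder G) {M K U : Subgroup G}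
    (hM : IsCoatom M) (Hκ : ∀ p ∈ Cfsg.kappa M, p ∈ Cfsg.tau1 M) (HL : T1312 M)
    (hKU : Cfsg.IsSigmaDecomposition M K U) (hK1 : K ≠ ⊥) : U ≤ ⁅M, M⁆ := by
  obtain ⟨⟨k, hk⟩, hk1'⟩ := (Subgroup.ne_bot_iff_exists_ne_one).mp hK1
  have hk1 : k ≠ 1 := fun e => hk1' (Subtype.ext e)
  have hreg := kappa_regular_on_U hG hM Hκ HL hKU k hk hk1
  have hkN : ∀ u ∈ U, k * u * k⁻¹ ∈ U := fun u hu =>
    conj_mem_of_le_normalizer hKU.normal hk hu
  let f : U → U := fun u => ⟨(u : G)⁻¹ * (k * u * k⁻¹), U.mul_mem (U.inv_mem u.2) (hkN u u.2)⟩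
  have hinj : Function.Injective f := by
    intro u v huv
    have h1 : (u : G)⁻¹ * (k * u * k⁻¹) = (v : G)⁻¹ * (k * v * k⁻¹) := congrArg Subtype.val huv
    have h2 : (v : G) * (u : G)⁻¹ ∈ U ⊓ Subgroup.centralizer ({k} : Set G) := by
      refine Subgroup.mem_inf.mpr ⟨U.mul_mem v.2 (U.inv_mem u.2), ?_⟩
      rw [Subgroup.mem_centralizer_singleton_iff]
      have h3 : k * ((v : G) * (u : G)⁻¹) * k⁻¹ = (v : G) * (u : G)⁻¹ := by
        calc k * ((v : G) * (u : G)⁻¹) * k⁻¹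
            = (k * v * k⁻¹) * (k * u * k⁻¹)⁻¹ := by group
          _ = (v : G) * ((v : G)⁻¹ * (k * v * k⁻¹)) * (k * u * k⁻¹)⁻¹ := by group
          _ = (v : G) * ((u : G)⁻¹ * (k * u * k⁻¹)) * (k * u * k⁻¹)⁻¹ := by rw [h1]
          _ = (v : G) * (u : G)⁻¹ := by group
      calc (v : G) * (u : G)⁻¹ * k = k * ((v : G) * (u : G)⁻¹) * k⁻¹ * k := by rw [h3]
        _ = k * ((v : G) * (u : G)⁻¹) := by group
    rw [hreg, Subgroup.mem_bot] at h2
    apply Subtype.ext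
    exact (mul_inv_eq_one.mp h2).symm
  have hsurj : Function.Surjective f := Finite.injective_iff_surjective.mp hinj
  intro u' hu'
  obtain ⟨u, hu⟩ := hsurj ⟨u', hu'⟩
  have h1 : (u : G)⁻¹ * (k * u * k⁻¹) = u' := congrArg Subtype.val hu
  have h2 : ⁅(u : G)⁻¹, k⁆ = u' := by
    rw [← h1, commutatorElement_def]
    group
  rw [← h2]
  exact Subgroup.commutator_mem_commutator (M.inv_mem (hKU.compl.1 u.2)) (hKU.hall.1 hk)

theorem derived_eq (hG : Cfsg.IsMinSimpleOddOrder G) {M K U : Subgroup G}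
    (hM : IsCoatom M) (Hκ : ∀ p ∈ Cfsg.kappa M, p ∈ Cfsg.tau1 M) (HL : T1312 M)
    (hKU : Cfsg.IsSigmaDecomposition M K U) (hK1 : K ≠ ⊥) :
    ⁅M, M⁆ = U ⊔ Cfsg.sigmaCore M := by
  obtain ⟨W, hW⟩ := exists_kHall hG hM Hκ
  have hsup := hW.decomp_sup_eq hG hM hKU
  apply le_antisymm
  · rw [hsup]
    exact hW.derived_le
  · exact sup_le (U_le_derived hG hM Hκ HL hKU hK1) (sigmaCore_le_derived hG hM)

theorem kstar_le_derived_derived (hG : Cfsg.IsMinSimpleOddOrder G) {M K U : Subgroup G}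
    (hM : IsCoatom M) (hKU : Cfsg.IsSigmaDecomposition M K U) :
    Cfsg.sigmaCore M ⊓ Subgroup.centralizer (K : Set G) ≤
      ⁅U ⊔ Cfsg.sigmaCore M, U ⊔ Cfsg.sigmaCore M⁆ := by
  have hE := Cfsg.Agent.Lib.Helper1.BG15.compl_of_decomp hG hM hKU
  have h26 := (Cfsg.Agent.S1426.result hG M hM (U ⊔ K) hE).1
  obtain ⟨D, hD⟩ : ∃ D : Subgroup G, D = ⁅U ⊔ Cfsg.sigmaCore M, U ⊔ Cfsg.sigmaCore M⁆ := ⟨_, rfl⟩
  rw [← hD]
  have hUM : U ≤ M := hKU.compl.1
  have hWM : U ⊔ Cfsg.sigmaCore M ≤ M := sup_le hUM (sigmaCore_le M)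
  have hEW : U ⊔ K ≤ Subgroup.normalizer ((U ⊔ Cfsg.sigmaCore M : Subgroup G) : Set G) := by
    apply sup_le
    · exact le_sup_left.trans Subgroup.le_normalizer
    · intro k hk
      exact mem_normalizer_sup (hKU.normal hk) (le_normalizer_sigmaCore M (hKU.hall.1 hk))
  have hnormW : ∀ g ∈ Subgroup.normalizer ((U ⊔ Cfsg.sigmaCore M : Subgroup G) : Set G),
      g ∈ Subgroup.normalizer (D : Set G) := by
    intro g hg
    rw [hD]
    exact mem_normalizer_commutator hg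
  have hsN : Cfsg.sigmaCore M ≤ Subgroup.normalizer (D : Set G) := fun s hs =>
    hnormW s (Subgroup.le_normalizer (Subgroup.mem_sup_right hs))
  have hEN : U ⊔ K ≤ Subgroup.normalizer (D : Set G) := fun e he => hnormW e (hEW he)
  have hEσ : U ⊔ K ≤ Subgroup.normalizer (Cfsg.sigmaCore M : Set G) :=
    hE.1.trans (le_normalizer_sigmaCore M)
  have hcop : (Nat.card ↥(U ⊔ K)).Coprime (Nat.card (Cfsg.sigmaCore M)) := by
    apply Nat.coprime_of_dvd
    intro q hq h1 h2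
    exact compl_prime_not_sigma hG hM hE hq h1 (prime_sigmaCore hG hM hq h2)
  have hsolv : Group.IsSolvable (Cfsg.sigmaCore M) := compl_solvable hG hM (sigmaCore_le M)
  intro x hx
  obtain ⟨hxs, hxK⟩ := Subgroup.mem_inf.mp hx
  have hfix : ∀ a ∈ U ⊔ K, a * x * a⁻¹ * x⁻¹ ∈ Cfsg.sigmaCore M ⊓ D := by
    intro a ha
    obtain ⟨u, hu, k, hk, rfl⟩ :=
      Cfsg.Agent.Lib.Helper10.exists_mul_of_mem_sup U K hKU.normal a ha
    have hkx : k * x = x * k := Subgroup.mem_centralizer_iff.mp hxK k hk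
    have h1 : u * k * x * (u * k)⁻¹ * x⁻¹ = ⁅u, x⁆ := by
      rw [commutatorElement_def]
      calc u * k * x * (u * k)⁻¹ * x⁻¹ = u * (k * x) * k⁻¹ * u⁻¹ * x⁻¹ := by group
        _ = u * (x * k) * k⁻¹ * u⁻¹ * x⁻¹ := by rw [hkx]
        _ = u * x * u⁻¹ * x⁻¹ := by group
    rw [h1]
    refine Subgroup.mem_inf.mpr ⟨?_, ?_⟩
    · rw [commutatorElement_def]
      have h2 : u * x * u⁻¹ ∈ Cfsg.sigmaCore M :=
        conj_mem_of_le_normalizer (le_normalizer_sigmaCore M) (hUM hu) hxs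
      exact Subgroup.mul_mem _ h2 (Subgroup.inv_mem _ hxs)
    · rw [hD]
      exact Subgroup.commutator_mem_commutator (Subgroup.mem_sup_left hu)
        (Subgroup.mem_sup_right hxs)
  obtain ⟨c, hc, hcN⟩ := Cfsg.Agent.S0022.result (U ⊔ K) (Cfsg.sigmaCore M) hEσ hcop
    (Or.inr hsolv) (Cfsg.sigmaCore M ⊓ D) inf_le_left
    (fun s hs => mem_normalizer_inf (Subgroup.le_normalizer hs) (hsN hs))
    (fun e he => mem_normalizer_inf (hEσ he) (hEN he))
    x hxs hfix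
  have hcD : c ∈ D := by
    rw [hD]
    exact Subgroup.commutator_mono le_sup_right le_sup_right (h26 hc)
  have h3 : x = c * (x⁻¹ * c)⁻¹ := by group
  rw [h3]
  exact D.mul_mem hcD (D.inv_mem hcN.2)

end Cfsg.Agent.Lib.Helper1.BG14
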