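import Mathlib
import Cfsg.Agent.Lib.Helper1.BG14.KappaRegular

set_option autoImplicit false

namespace Cfsg.Agent.Lib.Helper1.BG14

open Cfsg Cfsg.Agent.Lib.Helper18 Cfsg.Agent.Lib.Helper28.BGt
open Cfsg.Agent.Lib.Helper1.BG12b

variable {G : Type*} [Group G] [Finite G]

def LemLForm (M : Subgroup G) : Prop :=
  ∀ (E P R : Subgroup G) (p r : ℕ), Cfsg.IsComplIn E (Cfsg.sigmaCore M) M →
    p ∈ Cfsg.tau1 M → r ∈ Cfsg.tau2 M → P ≤ E → Nat.card P = p →
    Cfsg.sigmaCore M ⊓ Subgroup.centralizer (P : Set G) ≠ ⊥ →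
    R ≤ E ⊓ Subgroup.centralizer (P : Set G) → Nat.card R = r → False

theorem centralizer_zpowers_eq (x : G) :
    Subgroup.centralizer ((Subgroup.zpowers x : Subgroup G) : Set G) =
      Subgroup.centralizer ({x} : Set G) := by
  rw [Subgroup.zpowers_eq_closure, Subgroup.centralizer_closure]

theorem T1312_of_lemL (hG : Cfsg.IsMinSimpleOddOrder G) {M : Subgroup G} (hM : IsCoatom M)
    (H : LemLForm M) : T1312 M := by
  intro x hx u hu hxo huo hcomm
  by_contra hne
  have hxp : (orderOf x).Prime := hxo.1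
  have hup : (orderOf u).Prime := huo.1
  have hZx : Subgroup.zpowers x ≤ M := by
    rw [Subgroup.zpowers_le]; exact hx
  have hZu : Subgroup.zpowers u ≤ M := by
    rw [Subgroup.zpowers_le]; exact hu
  have hcen : Subgroup.zpowers u ≤ Subgroup.centralizer ((Subgroup.zpowers x : Subgroup G) : Set G) := by
    rw [centralizer_zpowers_eq, Subgroup.zpowers_le, Subgroup.mem_centralizer_singleton_iff]
    exact hcomm.symm
  have hnorm : Subgroup.zpowers u ≤ Subgroup.normalizer ((Subgroup.zpowers x : Subgroup G) : Set G) :=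
    hcen.trans (Subgroup.centralizer_le_normalizer _)
  have hdvd : Nat.card (Subgroup.zpowers u ⊔ Subgroup.zpowers x : Subgroup G) ∣
      orderOf u * orderOf x := by
    have := card_sup_dvd hnorm
    rwa [Nat.card_zpowers, Nat.card_zpowers] at this
  obtain ⟨E, hE, hYE⟩ := exists_compl_ge hG hM (sup_le hZu hZx) (by
    intro q hq hqd
    have h2 := hqd.trans hdvd
    rcases (Nat.Prime.dvd_mul hq).mp h2 with h | h
    · rw [(Nat.prime_dvd_prime_iff_eq hq hup).mp h]; exact huo.2.1
    · rw [(Nat.prime_dvd_prime_iff_eq hq hxp).mp h]; exact hxo.2.1)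
  refine H E (Subgroup.zpowers x) (Subgroup.zpowers u) (orderOf x) (orderOf u) hE hxo huo
    (le_sup_right.trans hYE) (Nat.card_zpowers x) ?_ (le_inf (le_sup_left.trans hYE) hcen)
    (Nat.card_zpowers u)
  rw [centralizer_zpowers_eq]
  exact hne

end Cfsg.Agent.Lib.Helper1.BG14
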