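import Mathlib
import Cfsg.Agent.Lib.Helper1.BG14.KappaDerived
import Cfsg.Agent.Lib.Helper11.FrobKernelNil
import Cfsg.Agent.S1420

set_option autoImplicit false

namespace Cfsg.Agent.Lib.Helper1.BG14

open Cfsg Cfsg.Agent.Lib.Helper18 Cfsg.Agent.Lib.Helper28.BGt
open Cfsg.Agent.Lib.Helper1.BG12b

variable {G : Type*} [Group G] [Finite G]

theorem U_abelian (hG : Cfsg.IsMinSimpleOddOrder G) {M K U : Subgroup G}
    (hM : IsCoatom M) (Hκ : ∀ p ∈ Cfsg.kappa M, p ∈ Cfsg.tau1 M) (HL : T1312 M)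
    (hKU : Cfsg.IsSigmaDecomposition M K U) (hK1 : K ≠ ⊥) : IsMulCommutative U := by
  have hE := Cfsg.Agent.Lib.Helper1.BG15.compl_of_decomp hG hM hKU
  have hnil : Group.IsNilpotent U := by
    apply Cfsg.Agent.Lib.Helper11.FrobKernelNil.kernel_nilpotent U K hK1 hKU.normal
    intro k hk hk1 u hu hku
    have hreg := kappa_regular_on_U hG hM Hκ HL hKU k hk hk1
    have hmem : u ∈ U ⊓ Subgroup.centralizer ({k} : Set G) :=
      Subgroup.mem_inf.mpr ⟨hu, Subgroup.mem_centralizer_singleton_iff.mpr hku.symm⟩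
    rw [hreg, Subgroup.mem_bot] at hmem
    exact hmem
  apply (Cfsg.Agent.S1420.result hG M hM (U ⊔ K) hE).1 U hKU.compl.1 hnil
  intro p hp hpd
  exact compl_prime_not_sigma hG hM hE hp (hpd.trans (Subgroup.card_dvd_of_le le_sup_left))

end Cfsg.Agent.Lib.Helper1.BG14
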