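import Mathlib
import Cfsg.Agent.Lib.Helper1.BG14.LemLAdapter
import Cfsg.Agent.Lib.Helper1.BG14.KappaDerived
import Cfsg.Agent.Lib.Helper1.BG14.UAbelian

set_option autoImplicit false

namespace Cfsg.Agent.Lib.Helper1.BG14

open Cfsg

variable {G : Type*} [Group G] [Finite G]

theorem body_S1353 (hG : Cfsg.IsMinSimpleOddOrder G) {M : Subgroup G} (hM : IsCoatom M)
    (Hκ : ∀ p ∈ Cfsg.kappa M, p ∈ Cfsg.tau1 M) (H : LemLForm M)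
    {K U : Subgroup G} (hKU : Cfsg.IsSigmaDecomposition M K U) :
    ∀ k ∈ K, k ≠ 1 → U ⊓ Subgroup.centralizer ({k} : Set G) = ⊥ :=
  kappa_regular_on_U hG hM Hκ (T1312_of_lemL hG hM H) hKU

theorem body_S1354 (hG : Cfsg.IsMinSimpleOddOrder G) {M : Subgroup G} (hM : IsCoatom M)
    (Hκ : ∀ p ∈ Cfsg.kappa M, p ∈ Cfsg.tau1 M) (H : LemLForm M)
    {K : Subgroup G} (hKc : IsCyclic K) (hK : Cfsg.IsPiHallOf (Cfsg.kappa M) K M) :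
    Cfsg.sigmaCore M ⊓ Subgroup.centralizer (K : Set G) ≠ ⊥ ∧
      (K ≠ ⊥ → ∀ k ∈ K, k ≠ 1 →
        M ⊓ Subgroup.centralizer ({k} : Set G) =
          K ⊔ (Cfsg.sigmaCore M ⊓ Subgroup.centralizer (K : Set G))) := by
  refine ⟨Cfsg.Agent.Lib.Helper21.BG14a.kappa_star_ne_bot hG hM Hκ hK, ?_⟩
  intro _ k hk hk1
  obtain ⟨U, hKU⟩ := exists_decomp hG hM Hκ hKc hK
  exact kappa_cent hG hM Hκ (T1312_of_lemL hG hM H) hKU k hk hk1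

theorem body_S1365 (hG : Cfsg.IsMinSimpleOddOrder G) {M : Subgroup G} (hM : IsCoatom M)
    (Hκ : ∀ p ∈ Cfsg.kappa M, p ∈ Cfsg.tau1 M) (H : LemLForm M)
    {K U : Subgroup G} (hKU : Cfsg.IsSigmaDecomposition M K U) (hK1 : K ≠ ⊥) :
    ⁅M, M⁆ = U ⊔ Cfsg.sigmaCore M ∧
      (Cfsg.sigmaCore M ⊓ Subgroup.centralizer (K : Set G)) ≤ ⁅⁅M, M⁆, ⁅M, M⁆⁆ := by
  have h1 := derived_eq hG hM Hκ (T1312_of_lemL hG hM H) hKU hK1
  refine ⟨h1, ?_⟩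
  rw [h1]
  exact kstar_le_derived_derived hG hM hKU

end Cfsg.Agent.Lib.Helper1.BG14
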