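import Mathlib
import Cfsg.Agent.Lib.Helper21.BG13t
import Cfsg.Agent.Lib.Helper21.BG13s
import Cfsg.Agent.Lib.Helper21.BG13r
import Cfsg.Agent.Lib.Helper28.BGtJ
import Cfsg.Agent.Lib.Helper28.BGtK
import Cfsg.Agent.Lib.Helper1.BG15.URegular
import Cfsg.Agent.Lib.Helper1.BG14.LemLAdapter
import Cfsg.Agent.Lib.Helper13.BG14D

set_option autoImplicit false

namespace Cfsg.Agent.Lib.Helper1.BG14

open Cfsg Cfsg.Agent.Lib.Helper18 Cfsg.Agent.Lib.Helper28.BGt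

variable {G : Type*} [Group G] [Finite G]

omit [Finite G] in
theorem commute_of_normalize_disjoint {A B : Subgroup G} (hAB : A ⊓ B = ⊥) {a b : G}
    (ha : a ∈ A) (hb : b ∈ B) (haB : a ∈ Subgroup.normalizer (B : Set G))
    (hbA : b ∈ Subgroup.normalizer (A : Set G)) : a * b = b * a := by
  have h1 : a * b * a⁻¹ * b⁻¹ ∈ A := by
    have h2 : b * a⁻¹ * b⁻¹ ∈ A := (Subgroup.mem_normalizer_iff.mp hbA a⁻¹).mp (A.inv_mem ha)
    have : a * b * a⁻¹ * b⁻¹ = a * (b * a⁻¹ * b⁻¹) := by group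
    rw [this]
    exact A.mul_mem ha h2
  have h2 : a * b * a⁻¹ * b⁻¹ ∈ B := by
    have h3 : a * b * a⁻¹ ∈ B := (Subgroup.mem_normalizer_iff.mp haB b).mp hb
    exact B.mul_mem h3 (B.inv_mem hb)
  have h3 : a * b * a⁻¹ * b⁻¹ ∈ A ⊓ B := Subgroup.mem_inf.mpr ⟨h1, h2⟩
  rw [hAB, Subgroup.mem_bot] at h3
  have : a * b = (a * b * a⁻¹ * b⁻¹) * (b * a) := by group
  rw [this, h3, one_mul]

theorem moving_prime_tau1 (hG : Cfsg.IsMinSimpleOddOrder G) {M E : Subgroup G} (hM : IsCoatom M)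
    (hE : Cfsg.IsComplIn E (Cfsg.sigmaCore M) M) {p : ℕ} [hp : Fact p.Prime]
    (hp3 : p ∈ Cfsg.tau3 M) {P : Subgroup G} (hPE : P ≤ E) (hPc : Nat.card P = p)
    (hY : Cfsg.sigmaCore M ⊓ Subgroup.centralizer (P : Set G) ≠ ⊥) {r : ℕ} [hr : Fact r.Prime]
    (hrp : r ≠ p) {z : G} (hzE : z ∈ E) {k : ℕ} (hzo : orderOf z = r ^ (k + 1))
    (hzP : z ∉ Subgroup.centralizer (P : Set G)) : r ∈ Cfsg.tau1 M := by
  have hrE : r ∣ Nat.card E := by
    have h1 : orderOf z ∣ Nat.card E := Subgroup.orderOf_dvd_natCard E hzE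
    rw [hzo] at h1
    exact (dvd_pow_self r (Nat.succ_ne_zero k)).trans h1
  have hrσ : r ∉ Cfsg.sigma M := compl_prime_not_sigma hG hM hE hr.out hrE
  have hrM : r ∣ Nat.card M := hrE.trans (Subgroup.card_dvd_of_le hE.1)
  have h2 : Cfsg.PRankLE r 2 M :=
    Cfsg.Agent.Lib.Helper1.BG15.rank_le_two_of_not_sigma hG hM hr.out hrσ
  have h1 : Cfsg.PRankLE r 1 M := by
    by_contra h1
    exact Cfsg.Agent.Lib.Helper21.BG13s.tau2_empty_of_tau3_kappa hG hM hE hp3 hPE hPc hY r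
      ⟨hr.out, hrσ, h2, h1⟩
  by_cases hd : r ∣ Nat.card ↥⁅M, M⁆
  · exfalso
    have hzp : IsPGroup r (Subgroup.zpowers z) := by
      apply IsPGroup.of_card (n := k + 1)
      rw [Nat.card_zpowers, hzo]
    have hzE' : Subgroup.zpowers z ≤ E := by
      rw [Subgroup.zpowers_le]; exact hzE
    obtain ⟨T, hT, hzT⟩ := Cfsg.Agent.Lib.Helper18.exists_isSylowIn_ge hzE' hzp
    have hET : E ≤ Subgroup.normalizer (T : Set G) := sylow_tau3_normal hG hM hE hrσ hd h1 hT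
    have hEP : E ≤ Subgroup.normalizer (P : Set G) :=
      Cfsg.Agent.Lib.Helper21.BG13s.tau3_prime_normal hG hM hE hp3 hPE hPc
    have hPT : P ⊓ T = ⊥ := by
      apply Subgroup.inf_eq_bot_of_coprime
      obtain ⟨n, hn⟩ := IsPGroup.iff_card.mp hT.isPGroup
      rw [hPc, hn]
      apply Nat.Coprime.pow_right
      exact (Nat.coprime_primes hp.out hr.out).mpr (Ne.symm hrp)
    apply hzP
    rw [Subgroup.mem_centralizer_iff]
    intro w hw
    exact commute_of_normalize_disjoint hPT hw (hzT (Subgroup.mem_zpowers z)) (hET (hPE hw))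
      (hEP hzE)
  · exact ⟨hr.out, hrσ, hrM, hd, h1⟩

end Cfsg.Agent.Lib.Helper1.BG14
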