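import Mathlib
import Cfsg.Agent.Lib.Helper1.BG14.KappaCycA

set_option autoImplicit false

namespace Cfsg.Agent.Lib.Helper1.BG14

open Cfsg Cfsg.Agent.Lib.Helper18 Cfsg.Agent.Lib.Helper28.BGt

variable {G : Type*} [Group G] [Finite G]

theorem fixed_of_power_central (hG : Cfsg.IsMinSimpleOddOrder G) {M E H : Subgroup G}
    (hM : IsCoatom M) (hH : IsCoatom H)
    (hE : Cfsg.IsComplIn E (Cfsg.sigmaCore M) M) {p : ℕ} [hp : Fact p.Prime]
    (hpσ : p ∉ Cfsg.sigma M) (hp1 : Cfsg.PRankLE p 1 ↥M) {P : Subgroup G} (hPE : P ≤ E)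
    (hPc : Nat.card P = p) (hNP : Subgroup.normalizer (P : Set G) ≤ H)
    (hEN : E ≤ Subgroup.normalizer (P : Set G))
    (hY : Cfsg.sigmaCore M ⊓ Subgroup.centralizer (P : Set G) ≠ ⊥) {r : ℕ} [hr : Fact r.Prime]
    (hrσ : r ∉ Cfsg.sigma M) {z : G} (hzE : z ∈ E) {k : ℕ} (hzo : orderOf z = r ^ (k + 1))
    (hzP : z ∉ Subgroup.centralizer (P : Set G))
    (hxP : z ^ r ^ k ∈ Subgroup.centralizer (P : Set G)) :
    Cfsg.sigmaCore M ⊓ Subgroup.centralizer ({z ^ r ^ k} : Set G) ≠ ⊥ := by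
  intro hbot
  have hPM : P ≤ M := hPE.trans hE.1
  have hPp : IsPGroup p P := IsPGroup.of_card (n := 1) (by rw [hPc, pow_one])
  have hP1 : P ≠ ⊥ := by
    intro h
    rw [h, Subgroup.card_bot] at hPc
    exact hp.out.one_lt.ne hPc
  have hEH : E ≤ H := hEN.trans hNP
  obtain ⟨hnc, hpH, hPH⟩ := Cfsg.Agent.Lib.Helper21.BG13t.le_sigmaCore_of_normalizer_le hG hM hH hpσ
    hp1 hPc hPM hNP hY
  have hinf := Cfsg.Agent.Lib.Helper10.ThirteenTwo.inf_eq_cent hG hM hH hpσ hp1 hPp hP1 hPM hNP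
  obtain ⟨y, hy1⟩ := (Subgroup.ne_bot_iff_exists_ne_one).mp hY
  have hy' : (y : G) ∈ Cfsg.sigmaCore M ⊓ H := by rw [hinf]; exact y.2
  have hx'o : orderOf (z ^ r ^ k) = r := by
    rw [orderOf_pow' z (pow_ne_zero k hr.out.ne_zero), hzo, Nat.gcd_eq_right (pow_dvd_pow r (Nat.le_succ k)),
      pow_succ, Nat.mul_div_cancel_left _ (pow_pos hr.out.pos k)]
  have hx'E : z ^ r ^ k ∈ E := E.pow_mem hzE _
  have hx'1 : z ^ r ^ k ≠ 1 := by
    intro h
    rw [h, orderOf_one] at hx'o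
    exact hr.out.one_lt.ne hx'o
  have hrH : r ∈ Cfsg.tau1 H := by
    by_contra hrH
    have hb := Cfsg.Agent.Lib.Helper10.ThirteenTwo.part_b hG hM hH hpσ hp1 hPp hP1 hPM hNP hrσ hrH
      (z ^ r ^ k) ⟨hE.1 hx'E, hEH hx'E⟩ ⟨1, by rw [pow_one]; have := pow_orderOf_eq_one (z ^ r ^ k); rwa [hx'o] at this⟩
      (y : G) hy'
    apply hy1
    have hmem : (y : G) ∈ Cfsg.sigmaCore M ⊓ Subgroup.centralizer ({z ^ r ^ k} : Set G) := by
      refine Subgroup.mem_inf.mpr ⟨hy'.1, ?_⟩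
      rw [Subgroup.mem_centralizer_singleton_iff]
      exact hb.symm
    rw [hbot, Subgroup.mem_bot] at hmem
    exact Subtype.ext hmem
  have hzH : Subgroup.zpowers z ≤ H := by
    rw [Subgroup.zpowers_le]; exact hEH hzE
  have hzcard : Nat.card (Subgroup.zpowers z) = r ^ (k + 1) := by rw [Nat.card_zpowers, hzo]
  have hqr : ∀ q : ℕ, q.Prime → q ∣ Nat.card (Subgroup.zpowers z) → q = r := by
    intro q hq hqd
    rw [hzcard] at hqd
    exact (Nat.prime_dvd_prime_iff_eq hq hr.out).mp (hq.dvd_of_dvd_pow hqd)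
  obtain ⟨EH, hEHc, hzEH⟩ := exists_compl_ge hG hH hzH (by
    intro q hq hqd
    rw [hqr q hq hqd]
    exact hrH.2.1)
  have hpa := Cfsg.Agent.Lib.Helper21.BG13r.tau1_prime_action hG hH hEHc hzEH
    (by
      intro q hq hqd
      rw [hqr q hq hqd]
      exact hrH)
    (by
      intro a ha b hb
      obtain ⟨i, rfl⟩ := Subgroup.mem_zpowers_iff.mp ha
      obtain ⟨j, rfl⟩ := Subgroup.mem_zpowers_iff.mp hb
      rw [← zpow_add, ← zpow_add, add_comm])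
    (z ^ r ^ k) (Subgroup.pow_mem _ (Subgroup.mem_zpowers z) _) hx'1
  apply hzP
  rw [Subgroup.mem_centralizer_iff]
  intro w hw
  have hw1 : w ∈ Cfsg.sigmaCore H ⊓ Subgroup.centralizer ({z ^ r ^ k} : Set G) := by
    refine Subgroup.mem_inf.mpr ⟨hPH hw, ?_⟩
    rw [Subgroup.mem_centralizer_singleton_iff]
    exact ((Subgroup.mem_centralizer_iff.mp hxP) w hw)
  rw [hpa] at hw1
  exact ((Subgroup.mem_centralizer_iff.mp hw1.2) z (Subgroup.mem_zpowers z)).symm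

end Cfsg.Agent.Lib.Helper1.BG14
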