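import Mathlib
import Cfsg.Agent.Lib.Helper1.BG14.KappaCycB

set_option autoImplicit false

namespace Cfsg.Agent.Lib.Helper1.BG14

open Cfsg Cfsg.Agent.Lib.Helper18 Cfsg.Agent.Lib.Helper28.BGt

variable {G : Type*} [Group G] [Finite G]

theorem kappa_pRankLE_one {M : Subgroup G} {p : ℕ} (hpκ : p ∈ Cfsg.kappa M) :
    Cfsg.PRankLE p 1 ↥M := by
  haveI : Fact p.Prime := ⟨hpκ.1⟩
  obtain ⟨S⟩ : Nonempty (Sylow p M) := inferInstance
  apply pRankLE_one_of_cyclic_sylow (isSylowIn_of_sylow S)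
  exact (MulEquiv.isCyclic ((S : Subgroup M).equivMapOfInjective M.subtype
    M.subtype_injective)).mp (hpκ.2.2.2 S).1

theorem kappa_sub_tau1_of_cyclic_core (hG : Cfsg.IsMinSimpleOddOrder G) {M K : Subgroup G}
    (hM : IsCoatom M) (hK : Cfsg.IsPiHallOf (Cfsg.kappa M) K M) (hKc : IsCyclic K)
    (HA : ∀ (E P : Subgroup G) (p : ℕ), p.Prime → Cfsg.IsComplIn E (Cfsg.sigmaCore M) M →
      p ∈ Cfsg.tau3 M → P ≤ E → Nat.card P = p →
      Cfsg.sigmaCore M ⊓ Subgroup.centralizer (P : Set G) ≠ ⊥ →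
      ∃ (r k : ℕ) (z : G), r.Prime ∧ r ≠ p ∧ z ∈ E ∧ orderOf z = r ^ (k + 1) ∧
        z ∉ Subgroup.centralizer (P : Set G))
    (HB : ∀ (E P : Subgroup G) (p r : ℕ) (x : G), p.Prime → r.Prime →
      Cfsg.IsComplIn E (Cfsg.sigmaCore M) M →
      p ∈ Cfsg.tau3 M → P ≤ E → Nat.card P = p →
      Cfsg.sigmaCore M ⊓ Subgroup.centralizer (P : Set G) ≠ ⊥ → r ∈ Cfsg.tau1 M → x ∈ E →
      orderOf x = r → x ∉ Subgroup.centralizer (P : Set G) →
      Cfsg.sigmaCore M ⊓ Subgroup.centralizer ({x} : Set G) ≠ ⊥) :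
    ∀ p, p ∈ Cfsg.kappa M → p ∈ Cfsg.tau1 M := by
  intro p hpκ
  haveI : IsSimpleGroup G := hG.2.1
  have hp : p.Prime := hpκ.1
  haveI hpf : Fact p.Prime := ⟨hp⟩
  have hpM : p ∣ Nat.card M := hpκ.2.1
  have hpσ : p ∉ Cfsg.sigma M := hpκ.2.2.1
  have hp1 : Cfsg.PRankLE p 1 ↥M := kappa_pRankLE_one hpκ
  by_cases hd : p ∣ Nat.card ↥⁅M, M⁆
  swap
  · exact ⟨hp, hpσ, hpM, hd, hp1⟩
  exfalso
  have hp3 : p ∈ Cfsg.tau3 M := ⟨hp, hpσ, hd, hp1⟩
  have hKM : K ≤ M := hK.1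
  have hpK : p ∣ Nat.card K := by
    have h1 := Cfsg.Agent.Lib.Helper1.BG12.card_mul_relIndex_of_le hKM
    rw [← h1] at hpM
    rcases (Nat.Prime.dvd_mul hp).mp hpM with h | h
    · exact h
    · exact absurd h (hK.2.2 p hp hpκ)
  obtain ⟨x0, hx0⟩ := exists_prime_orderOf_dvd_card' p hpK
  have hxK : (x0 : G) ∈ K := x0.2
  have hxo : orderOf (x0 : G) = p := by rw [Subgroup.orderOf_coe]; exact hx0
  obtain ⟨E, hE, hKE⟩ := exists_compl_ge hG hM hKM (by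
    intro q hq hqd
    exact (hK.2.1 q hq hqd).2.2.1)
  have hPE : Subgroup.zpowers (x0 : G) ≤ E := by
    rw [Subgroup.zpowers_le]; exact hKE hxK
  have hPK : Subgroup.zpowers (x0 : G) ≤ K := by
    rw [Subgroup.zpowers_le]; exact hxK
  have hPc : Nat.card (Subgroup.zpowers (x0 : G)) = p := by rw [Nat.card_zpowers, hxo]
  have hY : Cfsg.sigmaCore M ⊓
      Subgroup.centralizer ((Subgroup.zpowers (x0 : G) : Subgroup G) : Set G) ≠ ⊥ := by
    obtain ⟨y, hy, hy1, hxy⟩ := Cfsg.Agent.Lib.Helper13.BG14.bg14_kappa_fixed hpκ (hKM hxK) hxo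
    intro hbot
    apply hy1
    have hmem : y ∈ Cfsg.sigmaCore M ⊓
        Subgroup.centralizer ((Subgroup.zpowers (x0 : G) : Subgroup G) : Set G) := by
      refine Subgroup.mem_inf.mpr ⟨hy, ?_⟩
      rw [centralizer_zpowers_eq, Subgroup.mem_centralizer_singleton_iff]
      exact hxy.symm
    rw [hbot, Subgroup.mem_bot] at hmem
    exact hmem
  obtain ⟨r, k, z, hr, hrp, hzE, hzo, hzP⟩ := HA E _ p hp hE hp3 hPE hPc hY
  haveI hrf : Fact r.Prime := ⟨hr⟩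
  have hr1 : r ∈ Cfsg.tau1 M := moving_prime_tau1 hG hM hE hp3 hPE hPc hY hrp hzE hzo hzP
  have hEN : E ≤ Subgroup.normalizer ((Subgroup.zpowers (x0 : G) : Subgroup G) : Set G) :=
    Cfsg.Agent.Lib.Helper21.BG13s.tau3_prime_normal hG hM hE hp3 hPE hPc
  have hx'o : orderOf (z ^ r ^ k) = r := by
    rw [orderOf_pow' z (pow_ne_zero k hr.ne_zero), hzo, Nat.gcd_eq_right (pow_dvd_pow r (Nat.le_succ k)),
      pow_succ, Nat.mul_div_cancel_left _ (pow_pos hr.pos k)]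
  have hx'E : z ^ r ^ k ∈ E := E.pow_mem hzE _
  have hfix : Cfsg.sigmaCore M ⊓ Subgroup.centralizer ({z ^ r ^ k} : Set G) ≠ ⊥ := by
    by_cases hc : z ^ r ^ k ∈
        Subgroup.centralizer ((Subgroup.zpowers (x0 : G) : Subgroup G) : Set G)
    · have hPp : IsPGroup p (Subgroup.zpowers (x0 : G)) :=
        IsPGroup.of_card (n := 1) (by rw [hPc, pow_one])
      have hP1 : Subgroup.zpowers (x0 : G) ≠ ⊥ := by
        intro h
        rw [h, Subgroup.card_bot] at hPc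
        exact hp.one_lt.ne hPc
      have hPtop : Subgroup.zpowers (x0 : G) ≠ ⊤ :=
        Cfsg.Agent.Lib.Helper11.MaxSubD.pgroup_ne_top hG p _ hPp
      have hNne : Subgroup.normalizer ((Subgroup.zpowers (x0 : G) : Subgroup G) : Set G) ≠ ⊤ :=
        Cfsg.Agent.Lib.Helper11.normalizer_ne_top_of_simple hP1 hPtop
      obtain ⟨H, hH, hNH⟩ := Cfsg.Agent.Lib.Helper11.BenderE.exists_coatom_ge _ hNne
      exact fixed_of_power_central hG hM hH hE hpσ hp1 hPE hPc hNH hEN hY hr1.2.1 hzE hzo hzP hc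
    · exact HB E _ p r _ hp hr hE hp3 hPE hPc hY hr1 hx'E hx'o hc
  obtain ⟨y, hy1⟩ := (Subgroup.ne_bot_iff_exists_ne_one).mp hfix
  have hyc : z ^ r ^ k * (y : G) = (y : G) * z ^ r ^ k :=
    (Subgroup.mem_centralizer_singleton_iff.mp (Subgroup.mem_inf.mp y.2).2).symm
  have hrκ : r ∈ Cfsg.kappa M :=
    Cfsg.Agent.Lib.Helper1.BG15.mem_kappa_of_nonregular hG hM hr hr1.2.1 hr1.2.2.2.2 (hE.1 hx'E)
      hx'o (Subgroup.mem_inf.mp y.2).1 (fun h => hy1 (Subtype.ext h)) hyc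
  have hzp : IsPGroup r (Subgroup.zpowers z) := by
    apply IsPGroup.of_card (n := k + 1)
    rw [Nat.card_zpowers, hzo]
  have hzE' : Subgroup.zpowers z ≤ E := by
    rw [Subgroup.zpowers_le]; exact hzE
  obtain ⟨S, hS, -⟩ := Cfsg.Agent.Lib.Helper18.exists_isSylowIn_ge (p := r) (bot_le : (⊥ : Subgroup G) ≤ K)
    IsPGroup.of_bot
  have hSM : IsSylowIn r S M := by
    refine ⟨hS.le.trans hKM, hS.isPGroup, ?_⟩
    rw [← Subgroup.relIndex_mul_relIndex _ K M hS.le hKM]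
    intro hd
    rcases (Nat.Prime.dvd_mul hr).mp hd with h | h
    · exact hS.not_dvd h
    · exact hK.2.2 r hr hrκ h
  have hSE : IsSylowIn r S E := hSM.of_le (hS.le.trans hKE) hE.1
  obtain ⟨e, he, hle⟩ := hSE.exists_conj_le hzE' hzp
  have hezK : e * z * e⁻¹ ∈ K := hS.le (hle (conj_mem_conjSub (Subgroup.mem_zpowers z)))
  apply hzP
  rw [Subgroup.mem_centralizer_iff]
  intro w hw
  have hewK : e * w * e⁻¹ ∈ K := hPK (conj_mem_of_le_normalizer hEN he hw)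
  obtain ⟨g, hg⟩ := hKc.exists_generator
  obtain ⟨i, hi⟩ := Subgroup.mem_zpowers_iff.mp (hg ⟨_, hezK⟩)
  obtain ⟨j, hj⟩ := Subgroup.mem_zpowers_iff.mp (hg ⟨_, hewK⟩)
  have hcomm : (e * w * e⁻¹) * (e * z * e⁻¹) = (e * z * e⁻¹) * (e * w * e⁻¹) := by
    have h1 : (⟨_, hewK⟩ : K) * ⟨_, hezK⟩ = ⟨_, hezK⟩ * ⟨_, hewK⟩ := by
      rw [← hi, ← hj, ← zpow_add, ← zpow_add, add_comm]
    exact congrArg Subtype.val h1
  have h2 : w * z = e⁻¹ * ((e * w * e⁻¹) * (e * z * e⁻¹)) * e := by group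
  rw [h2, hcomm]
  group

end Cfsg.Agent.Lib.Helper1.BG14
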