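import Mathlib
import Cfsg.Agent.Lib.Helper1.BG14.KappaCycC
import Cfsg.Agent.Lib.Helper21.BG13q

set_option autoImplicit false

namespace Cfsg.Agent.Lib.Helper1.BG14

open Cfsg

variable {G : Type*} [Group G] [Finite G]

theorem kappa_sub_tau1_of_cyclic (hG : Cfsg.IsMinSimpleOddOrder G) {M K : Subgroup G}
    (hM : IsCoatom M) (hK : Cfsg.IsPiHallOf (Cfsg.kappa M) K M) (hKc : IsCyclic K) :
    ∀ p, p ∈ Cfsg.kappa M → p ∈ Cfsg.tau1 M := by
  apply kappa_sub_tau1_of_cyclic_core hG hM hK hKc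
  · intro E P p hp hE hp3 hPE hPc _
    haveI : Fact p.Prime := ⟨hp⟩
    exact Cfsg.Agent.Lib.Helper21.BG13q.exists_moving_elt hG hM hE hp3 hPE hPc
  · intro E P p r x hp hr hE hp3 hPE hPc hY hr1 hxE hxo hxP
    haveI : Fact p.Prime := ⟨hp⟩
    haveI : Fact r.Prime := ⟨hr⟩
    exact Cfsg.Agent.Lib.Helper21.BG13q.tau1_moving_has_fixed_points hG hM hE hp3 hPE hPc hY hr1
      hxE hxo hxP

end Cfsg.Agent.Lib.Helper1.BG14
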