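import Mathlib
import Cfsg.Agent.Lib.Helper1.BG14.KappaDecomp
import Cfsg.Agent.S1361

set_option autoImplicit false

namespace Cfsg.Agent.Lib.Helper1.BG14

open Cfsg Cfsg.Agent.Lib.Helper18 Cfsg.Agent.Lib.Helper28.BGt
open Cfsg.Agent.Lib.Helper1.BG12b
open scoped Pointwise

variable {G : Type*} [Group G] [Finite G]

theorem hall_conj_into {W U Y : Subgroup G} (hWs : Group.IsSolvable W) (hUW : U ≤ W)
    (hYW : Y ≤ W) {n : ℕ} (hcard : Nat.card W = Nat.card U * n)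
    (hcop : (Nat.card U).Coprime n) (hY : (Nat.card Y).Coprime n) :
    ∃ w ∈ W, ∀ y ∈ Y, w⁻¹ * y * w ∈ U := by
  have hcU : Nat.card (U.subgroupOf W) = Nat.card U :=
    Nat.card_congr (Subgroup.subgroupOfEquivOfLe hUW).toEquiv
  have hcY : (Nat.card (Y.subgroupOf W)).Coprime n := by
    rw [Nat.card_congr (Subgroup.subgroupOfEquivOfLe hYW).toEquiv]
    exact hY
  obtain ⟨g, hg⟩ := Cfsg.Agent.Lib.Helper1.hall_le_conj (Nat.card U) n hcard hcop
    (U.subgroupOf W) (Y.subgroupOf W) hcU hcY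
  refine ⟨g, g.2, ?_⟩
  intro y hy
  have hyg : (⟨y, hYW hy⟩ : W) ∈ MulAut.conj g • U.subgroupOf W :=
    hg (by simpa [Subgroup.mem_subgroupOf] using hy)
  rw [Subgroup.mem_smul_pointwise_iff_exists] at hyg
  obtain ⟨e, he, hey⟩ := hyg
  have hgy : (g : G) * (e : G) * (g : G)⁻¹ = y := by
    have := congrArg Subtype.val hey
    simpa [MulAut.smul_def, MulAut.conj_apply] using this
  rw [← hgy]
  have h1 : (g : G)⁻¹ * ((g : G) * (e : G) * (g : G)⁻¹) * (g : G) = e := by group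
  rw [h1]
  exact Subgroup.mem_subgroupOf.mp he

theorem sigma_elt_mem (hG : Cfsg.IsMinSimpleOddOrder G) {M : Subgroup G} (hM : IsCoatom M)
    {z : G} (hz : z ∈ M) (hσ : ∀ q : ℕ, q.Prime → q ∣ orderOf z → q ∈ Cfsg.sigma M) :
    z ∈ Cfsg.sigmaCore M := by
  have hle : Subgroup.zpowers z ≤ Cfsg.sigmaCore M := by
    apply le_of_coprime_relIndex (sigmaCore_le M) (Subgroup.zpowers_le.mpr hz)
      (le_normalizer_sigmaCore M)
    rw [Nat.card_zpowers]
    apply Nat.coprime_of_dvd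
    intro q hq h1 h2
    exact (Cfsg.Agent.Lib.Helper11.BenderO.sigma_hall hG M hM).1.2.2 q hq (hσ q hq h1) h2
  exact hle (Subgroup.mem_zpowers z)

theorem exists_sigma_prime_part (hG : Cfsg.IsMinSimpleOddOrder G) {M : Subgroup G}
    (hM : IsCoatom M) {x : G} (hxM : x ∈ M) (hx : x ∉ Cfsg.sigmaCore M) :
    ∃ k : ℕ, x ^ k ∉ Cfsg.sigmaCore M ∧
      ∀ q : ℕ, q.Prime → q ∣ orderOf (x ^ k) → q ∉ Cfsg.sigma M := by
  have he : orderOf x ≠ 0 := (orderOf_pos x).ne'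
  obtain ⟨e₁, e₂, he12, hcop, h1, h2⟩ := pi_split (Cfsg.sigma M) (orderOf x) he
  have he1 : e₁ ≠ 0 := by
    rintro rfl
    rw [zero_mul] at he12
    exact he he12
  have he2 : e₂ ≠ 0 := by
    rintro rfl
    rw [mul_zero] at he12
    exact he he12
  have ho1 : orderOf (x ^ e₁) = e₂ := by
    rw [orderOf_pow_of_dvd he1 (Dvd.intro _ he12.symm), he12]
    exact Nat.mul_div_cancel_left e₂ (Nat.pos_of_ne_zero he1)
  have ho2 : orderOf (x ^ e₂) = e₁ := by
    rw [orderOf_pow_of_dvd he2 (Dvd.intro_left _ he12.symm), he12]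
    exact Nat.mul_div_cancel e₁ (Nat.pos_of_ne_zero he2)
  refine ⟨e₁, ?_, ?_⟩
  · intro hmem
    apply hx
    have h3 : x ^ e₂ ∈ Cfsg.sigmaCore M := by
      apply sigma_elt_mem hG hM (M.pow_mem hxM _)
      intro q hq hqd
      rw [ho2] at hqd
      exact h1 q hq hqd
    have hc : IsCoprime (e₁ : ℤ) (e₂ : ℤ) := Nat.isCoprime_iff_coprime.mpr hcop
    obtain ⟨a, b, hab⟩ := hc
    have h4 : x = (x ^ e₁) ^ a * (x ^ e₂) ^ b := by
      rw [← zpow_natCast x e₁, ← zpow_natCast x e₂, ← zpow_mul, ← zpow_mul, ← zpow_add]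
      have : (e₁ : ℤ) * a + (e₂ : ℤ) * b = 1 := by rw [← hab]; ring
      rw [this, zpow_one]
    rw [h4]
    exact Subgroup.mul_mem _ (Subgroup.zpow_mem _ hmem a) (Subgroup.zpow_mem _ h3 b)
  · intro q hq hqd
    rw [ho1] at hqd
    exact h2 q hq hqd

end Cfsg.Agent.Lib.Helper1.BG14
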