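import Mathlib
import Cfsg.Agent.Lib.Helper1.BG14.SigmaATI
import Cfsg.Agent.Lib.Helper11.BenderF

set_option autoImplicit false

namespace Cfsg.Agent.Lib.Helper1.BG14

open Cfsg Cfsg.Agent.Lib.Helper18 Cfsg.Agent.Lib.Helper28.BGt
open Cfsg.Agent.Lib.Helper1.BG12b

variable {G : Type*} [Group G] [Finite G]

theorem cent_unique_of_sigma' (hG : Cfsg.IsMinSimpleOddOrder G) {M K U : Subgroup G}
    (hM : IsCoatom M) (hKU : Cfsg.IsSigmaDecomposition M K U) {z : G}
    (hzW : z ∈ U ⊔ Cfsg.sigmaCore M) (hz1 : z ≠ 1)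
    (hzσ : ∀ q : ℕ, q.Prime → q ∣ orderOf z → q ∉ Cfsg.sigma M) {y : G}
    (hy : y ∈ Cfsg.sigmaCore M) (hy1 : y ≠ 1) (hzy : z * y = y * z) :
    ∀ L : Subgroup G, IsCoatom L → Subgroup.centralizer ({z} : Set G) ≤ L → L = M := by
  have hUM : U ≤ M := hKU.compl.1
  have hWM : U ⊔ Cfsg.sigmaCore M ≤ M := sup_le hUM (sigmaCore_le M)
  have hE := Cfsg.Agent.Lib.Helper1.BG15.compl_of_decomp hG hM hKU
  have hUN : U ≤ Subgroup.normalizer (Cfsg.sigmaCore M : Set G) :=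
    hUM.trans (le_normalizer_sigmaCore M)
  have hUs : U ⊓ Cfsg.sigmaCore M = ⊥ := by
    rw [eq_bot_iff, ← hKU.compl.2.2.1]
    exact inf_le_inf_left U le_sup_right
  have hcard : Nat.card (U ⊔ Cfsg.sigmaCore M : Subgroup G) =
      Nat.card U * Nat.card (Cfsg.sigmaCore M) := card_sup_of_inf_eq_bot hUN hUs
  have hcop : (Nat.card U).Coprime (Nat.card (Cfsg.sigmaCore M)) := by
    apply Nat.coprime_of_dvd
    intro q hq h1 h2
    exact compl_prime_not_sigma hG hM hE hq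
      (h1.trans (Subgroup.card_dvd_of_le le_sup_left)) (prime_sigmaCore hG hM hq h2)
  have hYc : (Nat.card (Subgroup.zpowers z)).Coprime (Nat.card (Cfsg.sigmaCore M)) := by
    rw [Nat.card_zpowers]
    apply Nat.coprime_of_dvd
    intro q hq h1 h2
    exact hzσ q hq h1 (prime_sigmaCore hG hM hq h2)
  obtain ⟨w, hw, hconj⟩ := hall_conj_into (compl_solvable hG hM hWM) le_sup_left
    (Subgroup.zpowers_le.mpr hzW) hcard hcop hYc
  have hwM : w ∈ M := hWM hw
  have hz'U : w⁻¹ * z * w ∈ U := hconj z (Subgroup.mem_zpowers z)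
  have hz'1 : w⁻¹ * z * w ≠ 1 := by
    intro h
    apply hz1
    have : z = w * (w⁻¹ * z * w) * w⁻¹ := by group
    rw [this, h]; group
  have hy' : w⁻¹ * y * w ∈ Cfsg.sigmaCore M := by
    have := conj_mem_of_le_normalizer (le_normalizer_sigmaCore M) (M.inv_mem hwM) hy
    simpa using this
  have hy'1 : w⁻¹ * y * w ≠ 1 := by
    intro h
    apply hy1
    have : y = w * (w⁻¹ * y * w) * w⁻¹ := by group
    rw [this, h]; group
  have hcomm : (w⁻¹ * z * w) * (w⁻¹ * y * w) = (w⁻¹ * y * w) * (w⁻¹ * z * w) := by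
    calc (w⁻¹ * z * w) * (w⁻¹ * y * w) = w⁻¹ * (z * y) * w := by group
      _ = w⁻¹ * (y * z) * w := by rw [hzy]
      _ = (w⁻¹ * y * w) * (w⁻¹ * z * w) := by group
  have hX1 : Subgroup.zpowers (w⁻¹ * z * w) ≠ ⊥ := by
    intro h
    apply hz'1
    have := Subgroup.mem_zpowers (w⁻¹ * z * w)
    rw [h, Subgroup.mem_bot] at this
    exact this
  have hXc : Cfsg.sigmaCore M ⊓ Subgroup.centralizer
      ((Subgroup.zpowers (w⁻¹ * z * w) : Subgroup G) : Set G) ≠ ⊥ := by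
    intro h
    apply hy'1
    have hmem : w⁻¹ * y * w ∈ Cfsg.sigmaCore M ⊓ Subgroup.centralizer
        ((Subgroup.zpowers (w⁻¹ * z * w) : Subgroup G) : Set G) := by
      refine Subgroup.mem_inf.mpr ⟨hy', ?_⟩
      rw [Subgroup.mem_centralizer_iff]
      rintro _ ⟨n, rfl⟩
      have hc : Commute (w⁻¹ * z * w) (w⁻¹ * y * w) := hcomm
      exact (hc.zpow_left n).eq
    rw [h, Subgroup.mem_bot] at hmem
    exact hmem
  obtain ⟨-, huniq⟩ := Cfsg.Agent.S1361.result hG M hM K U hKU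
    (Subgroup.zpowers (w⁻¹ * z * w)) (Subgroup.zpowers_le.mpr hz'U) hX1 hXc
  intro L hL hCL
  have h1 : conjSub w⁻¹ L = M := by
    apply huniq _ (Cfsg.Agent.Lib.Helper11.BenderF.isCoatom_conjSub w⁻¹ hL)
    intro c hc
    rw [mem_conjSub, inv_inv]
    apply hCL
    rw [Subgroup.mem_centralizer_iff]
    intro h hh
    rw [Set.mem_singleton_iff] at hh
    subst hh
    have h2 : (w⁻¹ * h * w) * c = c * (w⁻¹ * h * w) :=
      Subgroup.mem_centralizer_iff.mp hc _ (Subgroup.mem_zpowers _)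
    calc h * (w * c * w⁻¹) = w * ((w⁻¹ * h * w) * c) * w⁻¹ := by group
      _ = w * (c * (w⁻¹ * h * w)) * w⁻¹ := by rw [h2]
      _ = w * c * w⁻¹ * h := by group
  have h2 : L = conjSub w M := by
    rw [← h1, conjSub_mul, mul_inv_cancel, conjSub_one]
  rw [h2]
  exact conjSub_eq_of_mem_normalizer (Subgroup.le_normalizer hwM)

theorem not_mem_sigmaCore_of_sigma' (hG : Cfsg.IsMinSimpleOddOrder G) {M : Subgroup G}
    (hM : IsCoatom M) {z : G} (hz1 : z ≠ 1)
    (hzσ : ∀ q : ℕ, q.Prime → q ∣ orderOf z → q ∉ Cfsg.sigma M) : z ∉ Cfsg.sigmaCore M := by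
  intro hz
  have hne : orderOf z ≠ 1 := fun h => hz1 (orderOf_eq_one_iff.mp h)
  obtain ⟨q, hq, hqd⟩ := Nat.exists_prime_and_dvd hne
  apply hzσ q hq hqd
  apply prime_sigmaCore hG hM hq
  have h1 : orderOf z ∣ Nat.card (Cfsg.sigmaCore M) := by
    have := Subgroup.card_dvd_of_le (Subgroup.zpowers_le.mpr hz)
    rwa [Nat.card_zpowers] at this
  exact hqd.trans h1

end Cfsg.Agent.Lib.Helper1.BG14
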