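import Mathlib
import Cfsg.Agent.Lib.Helper1.BG14.SigmaATIb
import Cfsg.Agent.Lib.Helper11.BenderS
import Cfsg.Agent.Lib.Helper11.TransHypRank

set_option autoImplicit false

namespace Cfsg.Agent.Lib.Helper1.BG14

open Cfsg Cfsg.Agent.Lib.Helper18 Cfsg.Agent.Lib.Helper28.BGt
open Cfsg.Agent.Lib.Helper1.BG12b

variable {G : Type*} [Group G] [Finite G]

theorem normalizer_coatom (hG : Cfsg.IsMinSimpleOddOrder G) {M : Subgroup G}
    (hM : IsCoatom M) : Subgroup.normalizer (M : Set G) = M :=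
  Cfsg.Agent.Lib.Helper11.MaxSubB.normalizer_eq_of_coatom hG M hM M
    (Cfsg.Agent.Lib.Helper11.BenderS.coatom_ne_bot hG M hM) hM.1 Subgroup.le_normalizer

theorem le_normalizer_sigmaA_diff (hG : Cfsg.IsMinSimpleOddOrder G) {M K U : Subgroup G}
    (hM : IsCoatom M) (Hκ : ∀ p ∈ Cfsg.kappa M, p ∈ Cfsg.tau1 M)
    (hKU : Cfsg.IsSigmaDecomposition M K U) :
    M ≤ Subgroup.normalizer (Cfsg.sigmaA M U \ (Cfsg.sigmaCore M : Set G)) := by
  have hN := decomp_normal hG hM Hκ hKU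
  have key : ∀ m ∈ M, ∀ h ∈ Cfsg.sigmaA M U \ (Cfsg.sigmaCore M : Set G),
      m * h * m⁻¹ ∈ Cfsg.sigmaA M U \ (Cfsg.sigmaCore M : Set G) := by
    rintro m hm h ⟨⟨⟨hhM, y, hy, hy1, hhy⟩, hhW⟩, hhn⟩
    refine ⟨⟨⟨M.mul_mem (M.mul_mem hm hhM) (M.inv_mem hm), m * y * m⁻¹, ?_, ?_, ?_⟩, ?_⟩, ?_⟩
    · exact conj_mem_of_le_normalizer (le_normalizer_sigmaCore M) hm hy
    · intro h1
      apply hy1
      have : y = m⁻¹ * (m * y * m⁻¹) * m := by group
      rw [this, h1]; group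
    · calc m * h * m⁻¹ * (m * y * m⁻¹) = m * (h * y) * m⁻¹ := by group
        _ = m * (y * h) * m⁻¹ := by rw [hhy]
        _ = m * y * m⁻¹ * (m * h * m⁻¹) := by group
    · exact conj_mem_of_le_normalizer hN hm hhW
    · intro h1
      apply hhn
      have h2 := conj_mem_of_le_normalizer (le_normalizer_sigmaCore M) (M.inv_mem hm) h1
      have : m⁻¹ * (m * h * m⁻¹) * m⁻¹⁻¹ = h := by group
      rwa [this] at h2
  intro m hm
  rw [Subgroup.mem_set_normalizer_iff]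
  intro h
  constructor
  · exact key m hm h
  · intro h1
    have h2 := key m⁻¹ (M.inv_mem hm) _ h1
    have : m⁻¹ * (m * h * m⁻¹) * m⁻¹⁻¹ = h := by group
    rwa [this] at h2

theorem sigmaA_diff_TI (hG : Cfsg.IsMinSimpleOddOrder G) {M K U : Subgroup G}
    (hM : IsCoatom M) (Hκ : ∀ p ∈ Cfsg.kappa M, p ∈ Cfsg.tau1 M)
    (hKU : Cfsg.IsSigmaDecomposition M K U) :
    Cfsg.IsTISubset (Cfsg.sigmaA M U \ (Cfsg.sigmaCore M : Set G)) := by
  intro g hg x hx hgx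
  exfalso
  apply hg
  apply le_normalizer_sigmaA_diff hG hM Hκ hKU
  obtain ⟨⟨⟨hxM, y, hy, hy1, hxy⟩, hxW⟩, hxn⟩ := hx
  obtain ⟨⟨⟨-, y₂, hy₂, hy₂1, hxy₂⟩, hxW₂⟩, -⟩ := hgx
  obtain ⟨k, hk1, hk2⟩ := exists_sigma_prime_part hG hM hxM hxn
  have hz1 : x ^ k ≠ 1 := by
    intro h
    apply hk1
    rw [h]
    exact Subgroup.one_mem _
  have hzy : x ^ k * y = y * x ^ k := by
    have hc : Commute x y := hxy
    exact (hc.pow_left k).eq
  have hconj : (g * x * g⁻¹) ^ k = g * x ^ k * g⁻¹ := conj_pow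
  have hz₂W : g * x ^ k * g⁻¹ ∈ U ⊔ Cfsg.sigmaCore M := by
    rw [← hconj]
    exact Subgroup.pow_mem _ hxW₂ k
  have hz₂1 : g * x ^ k * g⁻¹ ≠ 1 := by
    intro h
    apply hz1
    have : x ^ k = g⁻¹ * (g * x ^ k * g⁻¹) * g := by group
    rw [this, h]; group
  have hord : orderOf (g * x ^ k * g⁻¹) = orderOf (x ^ k) := by
    have := orderOf_injective (MulAut.conj g).toMonoidHom (MulAut.conj g).injective (x ^ k)
    simpa [MulAut.conj_apply] using this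
  have hz₂y : g * x ^ k * g⁻¹ * y₂ = y₂ * (g * x ^ k * g⁻¹) := by
    have hc : Commute (g * x * g⁻¹) y₂ := hxy₂
    have := (hc.pow_left k).eq
    rwa [hconj] at this
  have hu₁ := cent_unique_of_sigma' hG hM hKU (Subgroup.pow_mem _ hxW k) hz1 hk2 hy hy1 hzy
  have hu₂ := cent_unique_of_sigma' hG hM hKU hz₂W hz₂1
    (fun q hq hqd => hk2 q hq (by rwa [hord] at hqd)) hy₂ hy₂1 hz₂y
  have hsimple : IsSimpleGroup G := hG.2.1
  have hne : Subgroup.centralizer ({x ^ k} : Set G) ≠ ⊤ :=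
    Cfsg.Agent.Lib.Helper11.centralizer_singleton_ne_top hG.2.2.1 hz1
  obtain ⟨L, hL, hCL⟩ := (eq_top_or_exists_le_coatom _).resolve_left hne
  have hLM := hu₁ L hL hCL
  rw [hLM] at hCL
  have h3 : conjSub g M = M := by
    apply hu₂ _ (Cfsg.Agent.Lib.Helper11.BenderF.isCoatom_conjSub g hM)
    intro c hc
    rw [mem_conjSub]
    apply hCL
    rw [Subgroup.mem_centralizer_iff]
    intro h hh
    rw [Set.mem_singleton_iff] at hh
    subst hh
    have h2 : (g * x ^ k * g⁻¹) * c = c * (g * x ^ k * g⁻¹) :=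
      Subgroup.mem_centralizer_iff.mp hc _ rfl
    calc x ^ k * (g⁻¹ * c * g) = g⁻¹ * ((g * x ^ k * g⁻¹) * c) * g := by group
      _ = g⁻¹ * (c * (g * x ^ k * g⁻¹)) * g := by rw [h2]
      _ = g⁻¹ * c * g * x ^ k := by group
  have h4 : g ∈ Subgroup.normalizer (M : Set G) := mem_normalizer_of_conjSub_le h3.le
  rwa [normalizer_coatom hG hM] at h4

end Cfsg.Agent.Lib.Helper1.BG14
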